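/-
Subgroups of ³D₄(q) containing the points over the field of q elements.
-/
import Cfsg.Agent.Lib.Chev.Gen.TwGenD4
import Cfsg.Agent.Lib.Chev.FoldTwist.Main
import Cfsg.Agent.Lib.Chev.SpecialTools
import Cfsg.Agent.Lib.Chev.Aut.TwAutGen

set_option autoImplicit false
set_option linter.unusedSectionVars false
set_option linter.unusedSimpArgs false
set_option maxHeartbeats 2000000

namespace Cfsg.Agent.Chev.TwSubD4

open Cfsg.Lie
open scoped Matrix

theorem tbl :
    (∀ r : Fin 24, D4.pk.isPos (r : ℕ) = true → (r : ℕ) = 23 ∨ (D4.pk.cword 23 r = [] ∧ ckOrth D4.pk 23 r = true)) ∧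
    (∀ r : Fin 24, D4.pk.isPos (r : ℕ) = true → (r : ℕ) = 22 ∨ (r : ℕ) = 14 ∨ ckOrth D4.pk 22 r = true) ∧
    (∀ r : Fin 24, gD4a.rr (r : ℕ) = r → (r : ℕ) = 0 ∨ (r : ℕ) = 1 ∨ (r : ℕ) = 9 ∨ (r : ℕ) = 14 ∨ (r : ℕ) = 22 ∨ (r : ℕ) = 23) ∧
    ([0, 1, 9, 14, 22, 23].all fun r => ck1 D4.pk gD4a r) = true ∧
    D4.pk.nroots = 24 := by decide +kernel

theorem wnum :
    nsg D4.pk [1] 18 = (19, 1) ∧ nsg D4.pk [1] 13 = (16, -1) ∧ nsg D4.pk [1] 12 = (15, -1) ∧
    nsg D4.pk [1] 19 = (18, -1) ∧ nsg D4.pk [1] 16 = (13, 1) ∧ nsg D4.pk [1] 15 = (12, 1) ∧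
    nsg D4.pk [1] 17 = (17, 1) ∧ nsg D4.pk [1] 20 = (20, 1) ∧ nsg D4.pk [1] 21 = (21, 1) ∧
    nsg D4.pk [1] 22 = (23, 1) ∧ nsg D4.pk [1] 9 = (14, -1) ∧ nsg D4.pk [1] 0 = (1, -1) ∧
    nsg D4.pk [1] 23 = (22, -1) ∧
    nsg D4.pk [0, 2, 3] 19 = (17, 1) ∧ nsg D4.pk [0, 2, 3] 16 = (20, 1) ∧ nsg D4.pk [0, 2, 3] 15 = (21, 1) ∧
    nsg D4.pk [0, 2, 3] 14 = (22, -1) ∧ nsg D4.pk [0, 2, 3] 22 = (14, 1) ∧ nsg D4.pk [0, 2, 3] 1 = (9, 1) ∧
    nsg D4.pk [0, 2, 3] 23 = (23, 1) := by decide +kernel

variable {K : Type*} [Field K]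

local notation "x" => D4.ok.xG (F := K)

theorem com {a b : ℕ} (ho : ckOrth D4.pk a b = true) (u v : K) : x a u * x b v = x b v * x a u :=
  (D4.ok.commute_xG ckComm_D4 ho u v).eq

/-- One-term commutator rule. -/
theorem cj {r s g : ℕ} {k : ℤ} (hr : r < 24) (hs : s < 24) (h1 : s ≠ r) (h2 : s ≠ D4.pk.ng r)
    (hw : D4.pk.cword r s = [(g, k, 1, 1)]) (hg : ckOrth D4.pk g s = true) (t u : K) :
    MulAut.conj (x s u) (x r t) = x r t * x g ((k : K) * t * u) := by
  rw [MulAut.conj_apply, mul_inv_eq_iff_eq_mul, D4.ok.comm_xG ckComm_D4 (tbl.2.2.2.2.symm ▸ hr) (tbl.2.2.2.2.symm ▸ hs) h1 h2, hw]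
  simp only [List.map_cons, List.map_nil, List.prod_cons, List.prod_nil, mul_one, pow_one]
  rw [mul_assoc (x r t) (x g _), com hg, ← mul_assoc]

theorem cj0 {r s : ℕ} (ho : ckOrth D4.pk s r = true) (t u : K) : MulAut.conj (x s u) (x r t) = x r t := by
  rw [MulAut.conj_apply, com ho, mul_inv_cancel_right]

theorem sw0 {a b : ℕ} (ho : ckOrth D4.pk a b = true) (u v : K) (R : GL chevD4.Idx K) :
    x a u * (x b v * R) = x b v * (x a u * R) := by rw [← mul_assoc, com ho, mul_assoc]

theorem sw1 {a b : ℕ} {k : ℤ} (ha : a < 24) (hb : b < 24) (h1 : b ≠ a) (h2 : b ≠ D4.pk.ng a)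
    (hw : D4.pk.cword a b = [(23, k, 1, 1)]) (u v : K) (R : GL chevD4.Idx K) :
    x a u * (x b v * R) = x b v * (x a u * (x 23 (-((k : K) * u * v)) * R)) := by
  have e : x b v * x a u = x a u * x b v * x 23 ((k : K) * u * v) := by
    rw [D4.ok.comm_xG ckComm_D4 (tbl.2.2.2.2.symm ▸ ha) (tbl.2.2.2.2.symm ▸ hb) h1 h2, hw]
    simp
  rw [← mul_assoc (x b v), e, mul_assoc (x a u * x b v), ← mul_assoc (x 23 _) (x 23 _), D4.ok.xG_add,
    add_neg_cancel, D4.ok.xG_zero, one_mul, mul_assoc]

theorem merge (a : ℕ) (u v : K) (R : GL chevD4.Idx K) : x a u * (x a v * R) = x a (u + v) * R := by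
  rw [← mul_assoc, D4.ok.xG_add]

variable (φ : K →+* K)

/-- The elements at `a + b`. -/
noncomputable def aT (z : K) : GL chevD4.Idx K := x 19 z * x 16 (-φ z) * x 15 (-φ (φ z))

/-- The elements at `2a + b`. -/
noncomputable def bT (z : K) : GL chevD4.Idx K := x 17 z * x 20 (-φ z) * x 21 (-φ (φ z))

/-- The twisted conjugate of a long root element. -/
noncomputable def kT (c t : K) : GL chevD4.Idx K := TwD4.dT φ c * x 14 t * (TwD4.dT φ c)⁻¹

theorem dT_conj (c : K) (y : GL chevD4.Idx K) : TwD4.dT φ c * y * (TwD4.dT φ c)⁻¹ =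
    MulAut.conj (x 18 c) (MulAut.conj (x 13 (φ c)) (MulAut.conj (x 12 (φ (φ c))) y)) := by
  simp only [TwD4.dT, MulAut.conj_apply]; group

theorem kT_eq (hp : ∀ y, φ (φ (φ y)) = y) (c t : K) (ht : φ t = t) :
    kT φ c t = x 14 t * aT φ (-(t * c)) * bT φ (t * φ c * φ (φ c)) *
      (x 22 (-(t * (c * φ c * φ (φ c)))) * x 23 (-(t * t * (c * φ c * φ (φ c))))) := by
  have r := fun (u v : K) R => sw1 (a := 21) (b := 15) (k := -1) (by omega) (by omega) (by omega) (by decide +kernel)
    (by decide +kernel) u v R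
  simp only [kT, dT_conj, map_mul,
    cj (r := 14) (s := 12) (g := 15) (k := 1) (by omega) (by omega) (by omega) (by decide +kernel)
      (by decide +kernel) (by decide +kernel),
    cj (r := 14) (s := 13) (g := 16) (k := 1) (by omega) (by omega) (by omega) (by decide +kernel)
      (by decide +kernel) (by decide +kernel),
    cj (r := 15) (s := 13) (g := 17) (k := 1) (by omega) (by omega) (by omega) (by decide +kernel)
      (by decide +kernel) (by decide +kernel),
    cj (r := 14) (s := 18) (g := 19) (k := -1) (by omega) (by omega) (by omega) (by decide +kernel)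
      (by decide +kernel) (by decide +kernel),
    cj (r := 16) (s := 18) (g := 21) (k := -1) (by omega) (by omega) (by omega) (by decide +kernel)
      (by decide +kernel) (by decide +kernel),
    cj (r := 15) (s := 18) (g := 20) (k := -1) (by omega) (by omega) (by omega) (by decide +kernel)
      (by decide +kernel) (by decide +kernel),
    cj (r := 17) (s := 18) (g := 22) (k := -1) (by omega) (by omega) (by omega) (by decide +kernel)
      (by decide +kernel) (by decide +kernel)]
  simp only [aT, bT, mul_assoc, Int.cast_one, Int.cast_neg, one_mul, neg_one_mul, merge, r,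
    sw0 (a := 16) (b := 19) (by decide +kernel),
    sw0 (a := 15) (b := 19) (by decide +kernel),
    sw0 (a := 15) (b := 16) (by decide +kernel),
    sw0 (a := 17) (b := 16) (by decide +kernel),
    sw0 (a := 17) (b := 15) (by decide +kernel),
    sw0 (a := 20) (b := 19) (by decide +kernel),
    sw0 (a := 20) (b := 15) (by decide +kernel),
    sw0 (a := 20) (b := 17) (by decide +kernel),
    sw0 (a := 21) (b := 19) (by decide +kernel),
    sw0 (a := 21) (b := 16) (by decide +kernel),
    sw0 (a := 21) (b := 17) (by decide +kernel),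
    sw0 (a := 21) (b := 20) (by decide +kernel),
    sw0 (a := 22) (b := 19) (by decide +kernel),
    sw0 (a := 22) (b := 16) (by decide +kernel),
    sw0 (a := 22) (b := 15) (by decide +kernel),
    sw0 (a := 22) (b := 17) (by decide +kernel),
    sw0 (a := 22) (b := 20) (by decide +kernel),
    sw0 (a := 22) (b := 21) (by decide +kernel),
    sw0 (a := 23) (b := 19) (by decide +kernel),
    sw0 (a := 23) (b := 16) (by decide +kernel),
    sw0 (a := 23) (b := 15) (by decide +kernel),
    sw0 (a := 23) (b := 17) (by decide +kernel),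
    sw0 (a := 23) (b := 20) (by decide +kernel),
    sw0 (a := 23) (b := 21) (by decide +kernel),
    sw0 (a := 23) (b := 22) (by decide +kernel),
    map_neg, map_mul, ht, hp, neg_mul, neg_neg]
  rw [com (a := 23) (b := 22) (by decide +kernel)]
  congr! 3 <;> ring_nf

theorem psi_eq (hp : ∀ y, φ (φ (φ y)) = y) (z w : K) :
    TwD4.dT φ 1 * (aT φ z * bT φ w) * (TwD4.dT φ 1)⁻¹ =
      aT φ z * bT φ (w + -(φ z + φ (φ z))) * (x 22 ((z + φ z + φ (φ z)) - (w + φ w + φ (φ w))) *
        x 23 (-(z * φ z + φ z * φ (φ z) + φ (φ z) * z))) := by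
  have r := fun (u v : K) R => sw1 (a := 21) (b := 15) (k := -1) (by omega) (by omega) (by omega) (by decide +kernel)
    (by decide +kernel) u v R
  have r' := fun (u v : K) R => sw1 (a := 20) (b := 16) (k := -1) (by omega) (by omega) (by omega) (by decide +kernel)
    (by decide +kernel) u v R
  simp only [dT_conj, aT, bT, map_one, map_mul,
    cj0 (r := 19) (s := 18) (by decide +kernel),
    cj0 (r := 20) (s := 18) (by decide +kernel),
    cj0 (r := 21) (s := 18) (by decide +kernel),
    cj0 (r := 22) (s := 18) (by decide +kernel),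
    cj0 (r := 16) (s := 13) (by decide +kernel),
    cj0 (r := 17) (s := 13) (by decide +kernel),
    cj0 (r := 22) (s := 13) (by decide +kernel),
    cj0 (r := 21) (s := 13) (by decide +kernel),
    cj0 (r := 15) (s := 12) (by decide +kernel),
    cj0 (r := 17) (s := 12) (by decide +kernel),
    cj0 (r := 20) (s := 12) (by decide +kernel),
    cj0 (r := 22) (s := 12) (by decide +kernel),
    cj (r := 19) (s := 12) (g := 20) (k := 1) (by omega) (by omega) (by omega) (by decide +kernel)
      (by decide +kernel) (by decide +kernel),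
    cj (r := 16) (s := 12) (g := 17) (k := 1) (by omega) (by omega) (by omega) (by decide +kernel)
      (by decide +kernel) (by decide +kernel),
    cj (r := 21) (s := 12) (g := 22) (k := 1) (by omega) (by omega) (by omega) (by decide +kernel)
      (by decide +kernel) (by decide +kernel),
    cj (r := 19) (s := 13) (g := 21) (k := 1) (by omega) (by omega) (by omega) (by decide +kernel)
      (by decide +kernel) (by decide +kernel),
    cj (r := 20) (s := 13) (g := 22) (k := 1) (by omega) (by omega) (by omega) (by decide +kernel)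
      (by decide +kernel) (by decide +kernel),
    cj (r := 15) (s := 13) (g := 17) (k := 1) (by omega) (by omega) (by omega) (by decide +kernel)
      (by decide +kernel) (by decide +kernel),
    cj (r := 16) (s := 18) (g := 21) (k := -1) (by omega) (by omega) (by omega) (by decide +kernel)
      (by decide +kernel) (by decide +kernel),
    cj (r := 15) (s := 18) (g := 20) (k := -1) (by omega) (by omega) (by omega) (by decide +kernel)
      (by decide +kernel) (by decide +kernel),
    cj (r := 17) (s := 18) (g := 22) (k := -1) (by omega) (by omega) (by omega) (by decide +kernel)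
      (by decide +kernel) (by decide +kernel)]
  simp only [mul_assoc, Int.cast_one, Int.cast_neg, one_mul, neg_one_mul, mul_one, merge, r, r',
    sw0 (a := 16) (b := 19) (by decide +kernel),
    sw0 (a := 15) (b := 19) (by decide +kernel),
    sw0 (a := 15) (b := 16) (by decide +kernel),
    sw0 (a := 17) (b := 16) (by decide +kernel),
    sw0 (a := 17) (b := 15) (by decide +kernel),
    sw0 (a := 20) (b := 19) (by decide +kernel),
    sw0 (a := 20) (b := 15) (by decide +kernel),
    sw0 (a := 20) (b := 17) (by decide +kernel),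
    sw0 (a := 21) (b := 19) (by decide +kernel),
    sw0 (a := 21) (b := 16) (by decide +kernel),
    sw0 (a := 21) (b := 17) (by decide +kernel),
    sw0 (a := 21) (b := 20) (by decide +kernel),
    sw0 (a := 22) (b := 19) (by decide +kernel),
    sw0 (a := 22) (b := 16) (by decide +kernel),
    sw0 (a := 22) (b := 15) (by decide +kernel),
    sw0 (a := 22) (b := 17) (by decide +kernel),
    sw0 (a := 22) (b := 20) (by decide +kernel),
    sw0 (a := 22) (b := 21) (by decide +kernel),
    sw0 (a := 23) (b := 19) (by decide +kernel),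
    sw0 (a := 23) (b := 16) (by decide +kernel),
    sw0 (a := 23) (b := 15) (by decide +kernel),
    sw0 (a := 23) (b := 17) (by decide +kernel),
    sw0 (a := 23) (b := 20) (by decide +kernel),
    sw0 (a := 23) (b := 21) (by decide +kernel),
    sw0 (a := 23) (b := 22) (by decide +kernel),
    map_neg, map_add, hp, neg_mul, neg_neg]
  rw [com (a := 23) (b := 22) (by decide +kernel)]
  simp only [merge]
  congr! 3 <;> ring_nf

end Cfsg.Agent.Chev.TwSubD4
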