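/-
Maximality of the rational points in ³D₄(q).
-/
import Cfsg.Agent.Lib.Chev.TwSub.Calc

set_option autoImplicit false
set_option linter.unusedSectionVars false
set_option linter.unusedSimpArgs false
set_option linter.unnecessarySeqFocus false
set_option maxHeartbeats 2000000

namespace Cfsg.Agent.Chev.TwSubD4

open Cfsg.Lie
open scoped Matrix

variable {K : Type*} [Field K]

local notation "x" => D4.ok.xG (F := K)

theorem center23 {v : GL chevD4.Idx K} (hv : v ∈ chevD4.posUnipotent K) (s : K) : v * x 23 s * v⁻¹ = x 23 s := by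
  rw [D4.ok.posUnipotent_eq] at hv
  have hle : D4.ok.genR (F := K) (fun r => D4.pk.isPos r = true) ≤ Subgroup.centralizer {x 23 s} := by
    refine D4.ok.genR_le fun r hr u => Subgroup.mem_centralizer_singleton_iff.2 ?_
    have hr24 : r < 24 := tbl.2.2.2.2 ▸ (D4.pk.isPos_iff.1 hr).2
    rcases tbl.1 ⟨r, hr24⟩ hr with e | ⟨-, ho⟩
    · obtain rfl : r = 23 := e
      rw [D4.ok.xG_add, D4.ok.xG_add, add_comm]
    · exact (com ho s u).symm
  rw [Subgroup.mem_centralizer_singleton_iff.1 (hle hv), mul_inv_cancel_right]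

theorem lev22 {v : GL chevD4.Idx K} (hv : v ∈ chevD4.posUnipotent K) :
    ∀ t : K, ∃ s, v * x 22 t * v⁻¹ = x 22 t * x 23 s := by
  rw [D4.ok.posUnipotent_eq] at hv
  have gen : ∀ r, D4.pk.isPos r = true → ∀ u t : K, ∃ s, x r u * x 22 t * (x r u)⁻¹ = x 22 t * x 23 s := by
    intro r hr u t
    have hr24 : r < 24 := tbl.2.2.2.2 ▸ (D4.pk.isPos_iff.1 hr).2
    rcases tbl.2.1 ⟨r, hr24⟩ hr with e | e | e
    · obtain rfl : r = 22 := e
      exact ⟨0, by rw [D4.ok.xG_add, D4.ok.xG_inv, D4.ok.xG_add, D4.ok.xG_zero, mul_one]; ring_nf⟩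
    · obtain rfl : r = 14 := e
      exact ⟨_, cj (r := 22) (s := 14) (g := 23) (k := 1) (by omega) (by omega) (by omega) (by decide +kernel)
        (by decide +kernel) (by decide +kernel) t u⟩
    · exact ⟨0, by rw [← com e, mul_inv_cancel_right, D4.ok.xG_zero, mul_one]⟩
  induction hv using Subgroup.closure_induction'' with
  | one => exact fun t => ⟨0, by simp [D4.ok.xG_zero]⟩
  | mem y hy => obtain ⟨r, u, hr, rfl⟩ := hy; exact gen r hr u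
  | inv_mem y hy =>
    obtain ⟨r, u, hr, rfl⟩ := hy
    rw [D4.ok.xG_inv]
    exact gen r hr (-u)
  | mul a b ha hb iha ihb =>
    intro t
    obtain ⟨s, hs⟩ := ihb t
    obtain ⟨s', hs'⟩ := iha t
    refine ⟨s' + s, ?_⟩
    have haU : a ∈ chevD4.posUnipotent K := by rw [D4.ok.posUnipotent_eq]; exact ha
    rw [show a * b * x 22 t * (a * b)⁻¹ = a * (b * x 22 t * b⁻¹) * a⁻¹ by group, hs,
      show a * (x 22 t * x 23 s) * a⁻¹ = (a * x 22 t * a⁻¹) * (a * x 23 s * a⁻¹) by group, hs', center23 haU,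
      mul_assoc, D4.ok.xG_add]

theorem nb_ok : WordOk D4.pk [1] := fun i hi => by simp at hi; subst hi; decide
theorem na_ok : WordOk D4.pk [0, 2, 3] := fun i hi => by
  simp at hi; rcases hi with rfl | rfl | rfl <;> decide

/-- The two fixed representatives of reflections. -/
noncomputable def nb : GL chevD4.Idx K := D4.ok.nW [1]
/-- The second one. -/
noncomputable def na : GL chevD4.Idx K := D4.ok.nW [0, 2, 3]

theorem nb_xG {r s : ℕ} {e : ℤ} (h : nsg D4.pk [1] r = (s, e)) (hr : r < 24) (t : K) :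
    nb * x r t * nb⁻¹ = x s ((e : K) * t) := by
  have := (D4.ok.nW_xG_sign (F := K) [1] nb_ok r (tbl.2.2.2.2.symm ▸ hr) t).2
  rwa [h] at this

theorem na_xG {r s : ℕ} {e : ℤ} (h : nsg D4.pk [0, 2, 3] r = (s, e)) (hr : r < 24) (t : K) :
    na * x r t * na⁻¹ = x s ((e : K) * t) := by
  have := (D4.ok.nW_xG_sign (F := K) [0, 2, 3] na_ok r (tbl.2.2.2.2.symm ▸ hr) t).2
  rwa [h] at this

theorem conj3 (g a b c : GL chevD4.Idx K) : g * (a * b * c) * g⁻¹ = (g * a * g⁻¹) * (g * b * g⁻¹) * (g * c * g⁻¹) := by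
  group

variable (φ : K →+* K)

theorem nb_dT (z : K) : nb * TwD4.dT φ z * nb⁻¹ = aT φ z := by
  obtain ⟨w1, w2, w3, -⟩ := wnum
  rw [TwD4.dT, conj3, nb_xG w1 (by omega), nb_xG w2 (by omega), nb_xG w3 (by omega)]
  simp [aT]

theorem nb_aT (z : K) : nb * aT φ z * nb⁻¹ = TwD4.dT φ (-z) := by
  obtain ⟨-, -, -, w1, w2, w3, -⟩ := wnum
  rw [aT, conj3, nb_xG w1 (by omega), nb_xG w2 (by omega), nb_xG w3 (by omega)]
  simp [TwD4.dT]

theorem nb_bT (z : K) : nb * bT φ z * nb⁻¹ = bT φ z := by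
  obtain ⟨-, -, -, -, -, -, w1, w2, w3, -⟩ := wnum
  rw [bT, conj3, nb_xG w1 (by omega), nb_xG w2 (by omega), nb_xG w3 (by omega)]
  simp

theorem na_aT (z : K) : na * aT φ z * na⁻¹ = bT φ z := by
  obtain ⟨-, -, -, -, -, -, -, -, -, -, -, -, -, w1, w2, w3, -⟩ := wnum
  rw [aT, conj3, na_xG w1 (by omega), na_xG w2 (by omega), na_xG w3 (by omega)]
  simp [bT]

/-- The rational points. -/
noncomputable def Fx : Subgroup (GL chevD4.Idx K) := MonoidHom.eqLocus (gmap chevD4 φ) (MonoidHom.id _)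

theorem mem_Fx {g : GL chevD4.Idx K} : g ∈ Fx φ ↔ gmap chevD4 φ g = g := Iff.rfl

theorem xG_Fx {r : ℕ} (hr : r < 24) {t : K} (ht : φ t = t) : x r t ∈ Fx φ := by
  rw [mem_Fx, D4.ok.gmap_xG φ (tbl.2.2.2.2.symm ▸ hr), ht]

theorem six_mem {β : ℕ} (hβ : β ∈ [0, 1, 9, 14, 22, 23]) : ck1 D4.pk gD4a β = true ∧ β < 24 := by
  refine ⟨List.all_eq_true.1 tbl.2.2.2.1 β hβ, ?_⟩
  simp at hβ; omega

theorem long_fixed {β : ℕ} (hβ : β ∈ [0, 1, 9, 14, 22, 23]) {t : K} (ht : φ t = t) :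
    x β t ∈ (TwD4.T φ).fixed ⊓ Fx φ :=
  ⟨Std.xG_fixed ckG_D4a φ (six_mem hβ).1 ht, xG_Fx φ (six_mem hβ).2 ht⟩

theorem long_param {β : ℕ} (hβ : β ∈ [0, 1, 9, 14, 22, 23]) {t : K} (h : x β t ∈ (TwD4.T φ).fixed) : φ t = t := by
  obtain ⟨hck, hlt⟩ := six_mem hβ
  simp only [ck1, Bool.and_eq_true, Nat.blt_eq, nbeq, decide_eq_true_eq] at hck
  have h2 := ((TwD4.T φ).mem_fixed.1 h).2
  rw [Std.σ_xG' ckG_D4a φ hck.1.1 hck.2, hck.1.2] at h2
  exact D4.ok.xG_inj_param (tbl.2.2.2.2.symm ▸ hlt) h2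

variable {q : ℕ} (hφ : ∀ t, φ t = t ^ q) [Fintype K] (hK : Fintype.card K = q ^ 3)
  (G : TwistGrp (TwD4.T φ)) (hO : G.O.orbs = D4.orbsT)

include hO in
theorem nb_fixed : (nb : GL chevD4.Idx K) ∈ (TwD4.T φ).fixed ⊓ Fx φ :=
  ⟨G.le_fixed (G.nW_mem ([1], [1]) (by rw [hO]; decide)), (mem_Fx φ).2 (D4.ok.gmap_nW φ _ nb_ok)⟩

include hO in
theorem na_fixed : (na : GL chevD4.Idx K) ∈ (TwD4.T φ).fixed ⊓ Fx φ :=
  ⟨G.le_fixed (G.nW_mem ([0, 2, 3], [0, 2, 3]) (by rw [hO]; decide)),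
    (mem_Fx φ).2 (D4.ok.gmap_nW φ _ na_ok)⟩

theorem dT_T (hp : ∀ y, φ (φ (φ y)) = y) (z : K) : TwD4.dT φ z ∈ (TwD4.T φ).fixed := by
  have hc := TwD4.cks
  simp only [Bool.and_eq_true] at hc
  exact Std.triple_fixed ckG_D4a φ ckComm_D4 hc.1.2 (hp z)

theorem dT_Fx {z : K} (hz : φ z = z) : TwD4.dT φ z ∈ Fx φ := by
  rw [TwD4.dT, hz, hz]
  exact mul_mem (mul_mem (xG_Fx φ (by omega) hz) (xG_Fx φ (by omega) hz)) (xG_Fx φ (by omega) hz)

variable (hp : ∀ y, φ (φ (φ y)) = y) {H : Subgroup (GL chevD4.Idx K)} (hHT : H ≤ (TwD4.T φ).fixed)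
  (hMH : (TwD4.T φ).fixed ⊓ Fx φ ≤ H)

/-- An irrational parameter. -/
def Target (H : Subgroup (GL chevD4.Idx K)) : Prop :=
  ∃ c t : K, φ c ≠ c ∧ φ t = t ∧ t ≠ 0 ∧ kT φ c t ∈ H

theorem unconj {H : Subgroup (GL chevD4.Idx K)} {n g : GL chevD4.Idx K} (hn : n ∈ H) (h : n * g * n⁻¹ ∈ H) : g ∈ H := by
  rw [show g = n⁻¹ * (n * g * n⁻¹) * n by group]
  exact mul_mem (mul_mem (inv_mem hn) h) hn

include hO in
/-- The decomposition along an orbit. -/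
theorem split_b {v : GL chevD4.Idx K} (hv : v ∈ chevD4.posUnipotent K ⊓ (TwD4.T φ).fixed) :
    ∃ a, φ a = a ∧ ∃ c ∈ chevD4.posUnipotent K ⊓ (TwD4.T φ).fixed,
      nb * c * nb⁻¹ ∈ chevD4.posUnipotent K ⊓ (TwD4.T φ).fixed ∧ v = x 14 a * c := by
  have ho : (([1], [1]) : List ℕ × List ℕ) ∈ G.O.orbs := by rw [hO]; decide
  obtain ⟨c, hc, hnc, a, ha, e⟩ := G.split_fixed ckComm_D4 ho (inv_mem hv)
  obtain ⟨n1, -⟩ := TwD4.neg1
  have hck := TwD4.cks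
  simp only [Bool.and_eq_true] at hck
  obtain ⟨ha1, ha2⟩ := ha
  rw [TwD4.genR_neg n1 (by decide)] at ha1
  obtain ⟨t, ht, rfl⟩ := Std.fixed_single ckG_D4a φ (by decide) hck.1.1.1.1.1 ⟨ha1, ha2⟩
  refine ⟨-t, by rw [map_neg, ht], c⁻¹, inv_mem hc, ?_, ?_⟩
  · rw [show nb * c⁻¹ * (nb : GL chevD4.Idx K)⁻¹ = (nb * c * nb⁻¹)⁻¹ by group]
    exact inv_mem hnc
  · rw [← D4.ok.xG_inv, ← inv_inv v, e, mul_inv_rev]

include hO in
theorem split_a {v : GL chevD4.Idx K} (hv : v ∈ chevD4.posUnipotent K ⊓ (TwD4.T φ).fixed) :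
    ∃ a, ∃ c ∈ chevD4.posUnipotent K ⊓ (TwD4.T φ).fixed,
      na * c * na⁻¹ ∈ chevD4.posUnipotent K ⊓ (TwD4.T φ).fixed ∧ v = TwD4.dT φ a * c := by
  have ho : (([0, 2, 3], [0, 2, 3]) : List ℕ × List ℕ) ∈ G.O.orbs := by rw [hO]; decide
  obtain ⟨c, hc, hnc, a, ha, e⟩ := G.split_fixed ckComm_D4 ho (inv_mem hv)
  obtain ⟨-, n2⟩ := TwD4.neg1
  have hck := TwD4.cks
  simp only [Bool.and_eq_true] at hck
  obtain ⟨ha1, ha2⟩ := ha
  rw [TwD4.genR_neg n2 (by decide)] at ha1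
  obtain ⟨t, rfl⟩ := Std.fixed_triple ckG_D4a φ ckComm_D4 (by decide) (by decide) (by decide) hck.1.2 ⟨ha1, ha2⟩
  refine ⟨-t, c⁻¹, inv_mem hc, ?_, ?_⟩
  · rw [show na * c⁻¹ * (na : GL chevD4.Idx K)⁻¹ = (na * c * na⁻¹)⁻¹ by group]
    exact inv_mem hnc
  · rw [← TwD4.dT_neg, TwD4.dT, ← inv_inv v, e, mul_inv_rev]

include hO hp hHT hMH in
theorem case14' {a : K} {c : GL chevD4.Idx K}
    (hnc : na * c * na⁻¹ ∈ chevD4.posUnipotent K ⊓ (TwD4.T φ).fixed) {t : K} (ht : φ t = t) (h0 : t ≠ 0)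
    (hg : TwD4.dT φ a * c * x 14 t * (TwD4.dT φ a * c)⁻¹ ∈ H) :
    Target φ H ∨ (φ a = a ∧ TwD4.dT φ a * c * x 14 t * (TwD4.dT φ a * c)⁻¹ ∈ Fx φ) := by
  obtain ⟨-, -, -, -, -, -, -, -, -, -, -, -, -, -, -, -, w14, w22, -, w23⟩ := wnum
  obtain ⟨s, hs⟩ := lev22 hnc.1 (-t)
  have e1 : c * x 14 t * c⁻¹ = x 14 t * x 23 s := by
    have h1 : na * (c * x 14 t * c⁻¹) * (na : GL chevD4.Idx K)⁻¹ = na * (x 14 t * x 23 s) * na⁻¹ := by
      rw [show na * (c * x 14 t * c⁻¹) * (na : GL chevD4.Idx K)⁻¹ =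
        (na * c * na⁻¹) * (na * x 14 t * na⁻¹) * (na * c * na⁻¹)⁻¹ by group, na_xG w14 (by omega),
        show na * (x 14 t * x 23 s) * (na : GL chevD4.Idx K)⁻¹ = (na * x 14 t * na⁻¹) * (na * x 23 s * na⁻¹) by group,
        na_xG w14 (by omega), na_xG w23 (by omega)]
      simpa using hs
    exact mul_left_cancel (mul_right_cancel h1)
  have e2 : TwD4.dT φ a * c * x 14 t * (TwD4.dT φ a * c)⁻¹ = kT φ a t * x 23 s := by
    have hd : TwD4.dT φ a ∈ chevD4.posUnipotent K := by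
      exact mul_mem (mul_mem (D4.ok.xG_mem_pos (by decide) _) (D4.ok.xG_mem_pos (by decide) _))
        (D4.ok.xG_mem_pos (by decide) _)
    rw [show TwD4.dT φ a * c * x 14 t * (TwD4.dT φ a * c)⁻¹ =
      TwD4.dT φ a * (c * x 14 t * c⁻¹) * (TwD4.dT φ a)⁻¹ by group, e1,
      show TwD4.dT φ a * (x 14 t * x 23 s) * (TwD4.dT φ a)⁻¹ =
        (TwD4.dT φ a * x 14 t * (TwD4.dT φ a)⁻¹) * (TwD4.dT φ a * x 23 s * (TwD4.dT φ a)⁻¹) by group,
      center23 hd]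
    rfl
  rw [e2] at hg ⊢
  have hk : kT φ a t ∈ (TwD4.T φ).fixed :=
    mul_mem (mul_mem (dT_T φ hp a) (long_fixed φ (β := 14) (by decide) ht).1) (inv_mem (dT_T φ hp a))
  have hs' : φ s = s := long_param φ (β := 23) (by decide) (by simpa using Subgroup.mul_mem _ (Subgroup.inv_mem _ hk) (hHT hg))
  have hl : x 23 s ∈ (TwD4.T φ).fixed ⊓ Fx φ := long_fixed φ (β := 23) (by decide) hs'
  by_cases ha : φ a = a
  · exact Or.inr ⟨ha, mul_mem (mul_mem (mul_mem (dT_Fx φ ha) (long_fixed φ (β := 14) (by decide) ht).2) (inv_mem (dT_Fx φ ha))) hl.2⟩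
  · exact Or.inl ⟨a, t, ha, ht, h0, by simpa using mul_mem hg (inv_mem (hMH hl))⟩

include hO hp hHT hMH in
theorem case14 {v : GL chevD4.Idx K} (hv : v ∈ chevD4.posUnipotent K ⊓ (TwD4.T φ).fixed) {t : K} (ht : φ t = t)
    (hg : v * x 14 t * v⁻¹ ∈ H) :
    Target φ H ∨ v * x 14 t * v⁻¹ ∈ Fx φ := by
  by_cases h0 : t = 0
  · right; subst h0; simp [D4.ok.xG_zero]
  obtain ⟨a, c, -, hnc, rfl⟩ := split_a φ G hO hv
  exact (case14' φ G hO hp hHT hMH hnc ht h0 hg).imp id And.right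

/-- Every conjugate of that shape in `H` is rational, unless there is an irrational parameter. -/
def Good (H : Subgroup (GL chevD4.Idx K)) (β : ℕ) : Prop :=
  ∀ v ∈ chevD4.posUnipotent K ⊓ (TwD4.T φ).fixed, ∀ t : K, φ t = t → v * x β t * v⁻¹ ∈ H →
    Target φ H ∨ v * x β t * v⁻¹ ∈ Fx φ

include hO hMH in
theorem via_b {β β' : ℕ} {e : ℤ} (hw : nsg D4.pk [1] β = (β', e)) (hβ : β < 24) (hgood : Good φ H β') :
    Good φ H β := by
  intro v hv t ht hg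
  obtain ⟨a, ha, c, hc, hnc, rfl⟩ := split_b φ G hO hv
  have hn := nb_fixed φ G hO
  have hl := long_fixed φ (β := 14) (by decide) ha
  have e1 : nb * ((x 14 a)⁻¹ * (x 14 a * c * x β t * (x 14 a * c)⁻¹) * x 14 a) * (nb : GL chevD4.Idx K)⁻¹ =
      (nb * c * nb⁻¹) * x β' ((e : K) * t) * (nb * c * nb⁻¹)⁻¹ := by
    rw [← nb_xG hw hβ]; group
  have h1 : (nb * c * nb⁻¹) * x β' ((e : K) * t) * (nb * c * (nb : GL chevD4.Idx K)⁻¹)⁻¹ ∈ H := by
    rw [← e1]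
    exact mul_mem (mul_mem (hMH hn) (mul_mem (mul_mem (inv_mem (hMH hl)) hg) (hMH hl))) (inv_mem (hMH hn))
  rcases hgood _ hnc _ (by rw [map_mul, map_intCast, ht]) h1 with h | h
  · exact Or.inl h
  · refine Or.inr ?_
    rw [← e1] at h
    have h2 := unconj hn.2 h
    rw [show x 14 a * c * x β t * (x 14 a * c)⁻¹ =
      x 14 a * ((x 14 a)⁻¹ * (x 14 a * c * x β t * (x 14 a * c)⁻¹) * x 14 a) * (x 14 a)⁻¹ by group]
    exact mul_mem (mul_mem hl.2 h2) (inv_mem hl.2)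

include hHT in
theorem good22 : Good φ H 22 := by
  intro v hv t ht hg
  obtain ⟨s, hs⟩ := lev22 hv.1 t
  rw [hs] at hg ⊢
  have hl := long_fixed φ (β := 22) (by decide) ht
  have hs' : φ s = s := long_param φ (β := 23) (by decide) (by simpa using Subgroup.mul_mem _ (Subgroup.inv_mem _ hl.1) (hHT hg))
  exact Or.inr (mul_mem hl.2 (long_fixed φ (β := 23) (by decide) hs').2)

include hO hp hHT hMH in
theorem good9 : Good φ H 9 := by
  obtain ⟨-, -, -, -, -, -, -, -, -, -, wb9, -⟩ := wnum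
  exact via_b φ G hO hMH wb9 (by omega) fun v hv t ht hg => case14 φ G hO hp hHT hMH hv ht hg

include hO hp hHT hMH in
theorem good1 : Good φ H 1 := by
  obtain ⟨-, -, -, -, -, -, -, -, -, -, -, -, -, -, -, -, -, -, wa1, -⟩ := wnum
  have h9 := good9 φ G hO hp hHT hMH
  intro v hv t ht hg
  obtain ⟨a, c, hc, hnc, e⟩ := split_a φ G hO hv
  by_cases ha : φ a = a
  · subst e
    have hn := na_fixed φ G hO
    have hd : TwD4.dT φ a ∈ (TwD4.T φ).fixed ⊓ Fx φ := ⟨dT_T φ hp a, dT_Fx φ ha⟩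
    have e1 : na * ((TwD4.dT φ a)⁻¹ * (TwD4.dT φ a * c * x 1 t * (TwD4.dT φ a * c)⁻¹) * TwD4.dT φ a) *
        (na : GL chevD4.Idx K)⁻¹ = (na * c * na⁻¹) * x 9 t * (na * c * na⁻¹)⁻¹ := by
      rw [show x 9 t = x 9 (((1 : ℤ) : K) * t) by simp, ← na_xG wa1 (by omega)]; group
    have h1 : (na * c * na⁻¹) * x 9 t * (na * c * (na : GL chevD4.Idx K)⁻¹)⁻¹ ∈ H := by
      rw [← e1]
      exact mul_mem (mul_mem (hMH hn) (mul_mem (mul_mem (inv_mem (hMH hd)) hg) (hMH hd))) (inv_mem (hMH hn))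
    rcases h9 _ hnc t ht h1 with h | h
    · exact Or.inl h
    · refine Or.inr ?_
      rw [← e1] at h
      have h2 := unconj hn.2 h
      rw [show TwD4.dT φ a * c * x 1 t * (TwD4.dT φ a * c)⁻¹ = TwD4.dT φ a *
        ((TwD4.dT φ a)⁻¹ * (TwD4.dT φ a * c * x 1 t * (TwD4.dT φ a * c)⁻¹) * TwD4.dT φ a) * (TwD4.dT φ a)⁻¹ by group]
      exact mul_mem (mul_mem hd.2 h2) (inv_mem hd.2)
  · by_cases h0 : t = 0
    · right; subst h0; simp [D4.ok.xG_zero]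
    refine Or.inl ?_
    have hx := long_fixed φ (β := 23) (by decide) (map_one φ)
    have e1 : x 23 1 * x 1 t = x 1 t * x 23 1 * x 14 t := by
      rw [D4.ok.comm_xG ckComm_D4 (by decide) (by decide) (by omega) (by decide +kernel),
        show D4.pk.cword 1 23 = [(14, 1, 1, 1)] by decide +kernel]
      simp
    have h2 : (v * x 1 t * v⁻¹)⁻¹ * x 23 1 * (v * x 1 t * v⁻¹) = x 23 1 * (v * x 14 t * v⁻¹) := by
      rw [show (v * x 1 t * v⁻¹)⁻¹ * x 23 1 * (v * x 1 t * v⁻¹) =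
        v * ((x 1 t)⁻¹ * ((v⁻¹ * x 23 1 * v⁻¹⁻¹) * x 1 t)) * v⁻¹ by group, center23 (inv_mem hv.1), e1,
        show v * ((x 1 t)⁻¹ * (x 1 t * x 23 1 * x 14 t)) * v⁻¹ = (v * x 23 1 * v⁻¹) * (v * x 14 t * v⁻¹) by group,
        center23 hv.1]
    have h3 : v * x 14 t * v⁻¹ ∈ H := by
      have h4 : x 23 1 * (v * x 14 t * v⁻¹) ∈ H := h2 ▸ mul_mem (mul_mem (inv_mem hg) (hMH hx)) hg
      simpa using mul_mem (inv_mem (hMH hx)) h4
    subst e
    rcases case14' φ G hO hp hHT hMH hnc ht h0 h3 with h | ⟨h, -⟩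
    · exact h
    · exact absurd h ha

include hO hp hHT hMH in
theorem all_good : ∀ β ∈ [0, 1, 9, 14, 22, 23], Good φ H β := by
  intro β hβ
  simp only [List.mem_cons, List.not_mem_nil, or_false] at hβ
  rcases hβ with rfl | rfl | rfl | rfl | rfl | rfl
  · obtain ⟨-, -, -, -, -, -, -, -, -, -, -, wb0, -⟩ := wnum
    exact via_b φ G hO hMH wb0 (by omega) (good1 φ G hO hp hHT hMH)
  · exact good1 φ G hO hp hHT hMH
  · exact good9 φ G hO hp hHT hMH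
  · exact fun v hv t ht hg => case14 φ G hO hp hHT hMH hv ht hg
  · exact good22 φ hHT
  · exact fun v hv t ht _ => Or.inr (by rw [center23 hv.1]; exact (long_fixed φ (β := 23) (by decide) ht).2)

end Cfsg.Agent.Chev.TwSubD4
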