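/-
The rational points of ³D₄(q) form a maximal subgroup.
-/
import Cfsg.Agent.Lib.Chev.TwSub.Main

set_option autoImplicit false
set_option linter.unusedSectionVars false
set_option linter.unusedSimpArgs false
set_option linter.unnecessarySeqFocus false
set_option maxHeartbeats 1000000

namespace Cfsg.Agent.Chev.TwSubD4

open Cfsg.Lie
open scoped Matrix

/-- The word of the longest element. -/
def w0 : List ℕ := [1, 0, 2, 3, 1, 0, 2, 3, 1, 0, 2, 3]

theorem w0_tbl :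
    nsg D4.pk w0 5 = (18, -1) ∧ nsg D4.pk w0 10 = (13, -1) ∧ nsg D4.pk w0 11 = (12, -1) ∧
    (D4.pk.allRoots.all fun r => !D4.pk.isPos r || !D4.pk.isPos (wl D4.pk w0 r)) = true ∧
    (List.range 4).map (fun i => D4.pk.A i 14) = [-1, 2, -1, -1] ∧
    [18, 13, 12].map (fun r => D4.pk.A 1 r) = [-1, -1, -1] := by decide +kernel

variable {K : Type*} [Field K] (φ : K →+* K) {q : ℕ} (hφ : ∀ t, φ t = t ^ q) [Fintype K]
  (hK : Fintype.card K = q ^ 3) (G : TwistGrp (TwD4.T φ)) (hO : G.O.orbs = D4.orbsT)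
  (hp : ∀ y, φ (φ (φ y)) = y) {H : Subgroup (GL chevD4.Idx K)} (hHT : H ≤ (TwD4.T φ).fixed)
  (hMH : (TwD4.T φ).fixed ⊓ Fx φ ≤ H)

local notation "x" => D4.ok.xG (F := K)

theorem conj_form {g : GL chevD4.Idx K} (hg : g ∈ (TwD4.T φ).fixed) {s : K} (hs : φ s = s)
    (G : TwistGrp (TwD4.T φ)) :
    ∃ v ∈ chevD4.posUnipotent K ⊓ (TwD4.T φ).fixed, ∃ β ∈ [0, 1, 9, 14, 22, 23], ∃ t, φ t = t ∧
      g * x 23 s * g⁻¹ = v * x β t * v⁻¹ := by
  obtain ⟨l, hl, hc, n, hn, d0, hd0, en, b, hb, u, hu, rfl⟩ := G.decomp ckComm_D4 hg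
  obtain ⟨v, hv, d, hd, rfl⟩ := TwistGrp.borel_fixed ckComm_D4 hb.1 ((TwD4.T φ).mem_fixed.1 hb.2).2
  have h23 : 23 < D4.pk.nroots := by decide
  obtain ⟨e, -, he⟩ := D4.ok.conj_nW (F := K) hl hd0 h23
  obtain ⟨c, rfl⟩ := D4.ok.mem_diagonal_iff.1 hd.1
  set β := wl D4.pk l 23
  have hβn := D4.ok.wl_lt l hl 23 h23
  have hβ24 : β < 24 := tbl.2.2.2.2 ▸ hβn
  have hrr : gD4a.rr β = β := by
    have h1 := hc 23 h23
    rw [show (TwD4.T φ).ρ 23 = 23 by show gD4a.rr 23 = 23; decide +kernel] at h1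
    exact h1.symm
  have hβ : β ∈ [0, 1, 9, 14, 22, 23] := by
    rcases tbl.2.2.1 ⟨β, hβ24⟩ hrr with e | e | e | e | e | e <;> (simp only at e; rw [e]; decide)
  have e1 : (D4.ok.hHom c * n) * x 23 s * (D4.ok.hHom c * n)⁻¹ =
      x β (hchar D4.pk c β * (e * s)) := by
    rw [← D4.ok.hHom_xG c hβn, ← he s, en]; group
  have hfix : x β (hchar D4.pk c β * (e * s)) ∈ (TwD4.T φ).fixed := by
    rw [← e1]
    exact mul_mem (mul_mem (Subgroup.mul_mem _ hd.2 (G.le_fixed hn)) (long_fixed φ (β := 23) (by decide) hs).1)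
      (inv_mem (Subgroup.mul_mem _ hd.2 (G.le_fixed hn)))
  refine ⟨v, hv, β, hβ, _, long_param φ hβ hfix, ?_⟩
  rw [← e1, show v * D4.ok.hHom c * n * u * x 23 s * (v * D4.ok.hHom c * n * u)⁻¹ =
    v * ((D4.ok.hHom c * n) * (u * x 23 s * u⁻¹) * (D4.ok.hHom c * n)⁻¹) * v⁻¹ by group,
    center23 (D4.ok.negS_le_pos l hu.1)]

include hO hp hHT hMH in
theorem rational_or_target {g : GL chevD4.Idx K} (hg : g ∈ H) {s : K} (hs : φ s = s) :
    g * x 14 s * g⁻¹ ∈ Fx φ ∨ Target φ H := by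
  obtain ⟨-, -, -, -, -, -, -, -, -, -, -, -, wb23, -, -, -, -, wa22, -, -⟩ := wnum
  have hna := na_fixed φ G hO
  have hnb := nb_fixed φ G hO
  have e : g * x 14 s * g⁻¹ = (g * na * nb) * x 23 (-s) * (g * na * nb)⁻¹ := by
    rw [show (g * na * nb) * x 23 (-s) * (g * na * (nb : GL chevD4.Idx K))⁻¹ =
      g * (na * (nb * x 23 (-s) * nb⁻¹) * na⁻¹) * g⁻¹ by group, nb_xG wb23 (by omega), na_xG wa22 (by omega)]
    simp
  obtain ⟨v, hv, β, hβ, t, ht, e'⟩ := conj_form φ (g := g * na * nb)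
    (Subgroup.mul_mem _ (Subgroup.mul_mem _ (hHT hg) hna.1) hnb.1) (s := -s) (by rw [map_neg, hs]) G
  have hm : v * x β t * v⁻¹ ∈ H := by
    rw [← e', ← e]
    exact mul_mem (mul_mem hg (hMH (long_fixed φ (β := 14) (by decide) hs))) (inv_mem hg)
  rcases all_good φ G hO hp hHT hMH β hβ v hv t ht hm with h | h
  · exact Or.inr h
  · exact Or.inl (by rw [e, e']; exact h)

/-- Commuting with all rational conjugates of the long root elements. -/
def Centr (z : GL chevD4.Idx K) : Prop :=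
  ∀ m ∈ (TwD4.T φ).fixed ⊓ Fx φ, ∀ s : K, φ s = s → z * (m * x 14 s * m⁻¹) = (m * x 14 s * m⁻¹) * z

theorem diag_pos {i : ℕ} (hi : i < 4) {c : Fin 4 → Kˣ} {a : GL chevD4.Idx K}
    (ha : a ∈ D4.ok.genR (F := K) (Ok.Out D4.pk (· = i)))
    (he : D4.ok.hHom c * (x (D4.pk.sim i) 1 * a) * (D4.ok.hHom c)⁻¹ = x (D4.pk.sim i) 1 * a) :
    hchar D4.pk c (D4.pk.sim i) = (1 : K) := by
  have hs : D4.pk.sim i < D4.pk.nroots := D4.ok.sim_lt (i := i) hi
  have hd : D4.ok.hHom c ∈ chevD4.diagonalSubgroup K := D4.ok.mem_diagonal_iff.2 ⟨c, rfl⟩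
  have ha' := TwistGrp.diag_genR (h := D4.ok) (S := Ok.Out D4.pk (· = i)) (fun r hr => hr.1) hd ha
  rw [show D4.ok.hHom c * (x (D4.pk.sim i) 1 * a) * (D4.ok.hHom c)⁻¹ =
    (D4.ok.hHom c * x (D4.pk.sim i) 1 * (D4.ok.hHom c)⁻¹) * (D4.ok.hHom c * a * (D4.ok.hHom c)⁻¹) by group,
    D4.ok.hHom_xG c hs, mul_one] at he
  have h2 : x (D4.pk.sim i) (hchar D4.pk c (D4.pk.sim i) - 1) ∈ D4.ok.genR (Ok.Out D4.pk (· = i)) := by
    have e : (x (D4.pk.sim i) 1)⁻¹ * x (D4.pk.sim i) (hchar D4.pk c (D4.pk.sim i)) =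
        a * (D4.ok.hHom c * a * (D4.ok.hHom c)⁻¹)⁻¹ := by
      rw [eq_mul_inv_iff_mul_eq, mul_assoc, he, inv_mul_cancel_left]
    rw [sub_eq_add_neg, add_comm, ← D4.ok.xG_add, ← D4.ok.xG_inv, e]
    exact mul_mem ha (inv_mem ha')
  exact sub_eq_zero.1 (D4.ok.sim_not_out ckComm_D4 hi h2)

include hO hp in
theorem cent_trivial {z : GL chevD4.Idx K} (hz : z ∈ chevD4.group K) (hcz : Centr φ z) : z = 1 := by
  have hnb := nb_fixed φ G hO
  have hna := na_fixed φ G hO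
  have hd1 : TwD4.dT φ (1 : K) ∈ (TwD4.T φ).fixed ⊓ Fx φ := ⟨dT_T φ hp 1, dT_Fx φ (map_one φ)⟩
  obtain ⟨-, -, -, -, -, -, -, -, -, wb22, -, -, wb23, -⟩ := wnum
  set a0 : GL chevD4.Idx K := bT φ 1 * (x 23 (-1) * x 22 1) with ha0
  have ey : nb * ((x 14 (1 : K))⁻¹ * kT φ 1 1) * (nb : GL chevD4.Idx K)⁻¹ = TwD4.dT φ 1 * a0 := by
    rw [kT_eq φ hp 1 1 (map_one φ)]
    simp only [map_one, mul_one, one_mul]
    rw [show nb * ((x 14 (1 : K))⁻¹ * (x 14 1 * aT φ (-1) * bT φ 1 * (x 22 (-1) * x 23 (-1)))) *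
      (nb : GL chevD4.Idx K)⁻¹ = (nb * aT φ (-1) * nb⁻¹) * ((nb * bT φ 1 * nb⁻¹) *
        ((nb * x 22 (-1) * nb⁻¹) * (nb * x 23 (-1) * nb⁻¹))) by group, nb_aT, nb_bT,
      nb_xG wb22 (by omega), nb_xG wb23 (by omega), neg_neg]
    simp [a0]
  have comm_y : ∀ w, Centr φ w → w * (TwD4.dT φ 1 * a0) * w⁻¹ = TwD4.dT φ 1 * a0 := by
    intro w hw
    have h1 := hw nb hnb (-1) (by rw [map_neg, map_one])
    have h2 := hw (nb * TwD4.dT φ 1) (mul_mem hnb hd1) 1 (map_one φ)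
    have e : nb * ((x 14 (1 : K))⁻¹ * kT φ 1 1) * (nb : GL chevD4.Idx K)⁻¹ = (nb * x 14 (-1) * nb⁻¹) *
        (nb * TwD4.dT φ 1 * x 14 1 * (nb * TwD4.dT φ 1)⁻¹) := by
      rw [kT, D4.ok.xG_inv]; group
    rw [← ey, e, mul_inv_eq_iff_eq_mul, ← mul_assoc w, h1, mul_assoc (nb * x 14 (-1) * nb⁻¹) w, h2, ← mul_assoc]
  have hout : ∀ i r, i < 4 → r ≠ D4.pk.sim i → D4.pk.isPos r = true → ∀ t : K,
      x r t ∈ D4.ok.genR (F := K) (Ok.Out D4.pk (· = i)) :=
    fun i r hi hne hr t => D4.ok.xG_mem_genR ((D4.ok.out_sim (i := i) hi).2 ⟨hr, hne⟩) t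
  obtain ⟨s0, s1, s2, s3⟩ := TwD4.sims
  have ha0out : ∀ i, i ∈ [0, 2, 3] → a0 ∈ D4.ok.genR (F := K) (Ok.Out D4.pk (· = i)) := by
    intro i hi
    have hi4 : i < 4 := by simp at hi; omega
    have hne : ∀ r ∈ [17, 20, 21, 22, 23], r ≠ D4.pk.sim i := by
      intro r hr
      simp only [List.mem_cons, List.not_mem_nil, or_false] at hi hr
      rcases hi with rfl | rfl | rfl <;> simp only [s0, s2, s3] <;> omega
    exact mul_mem (mul_mem (mul_mem (hout i 17 hi4 (hne _ (by simp)) (by decide) _)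
      (hout i 20 hi4 (hne _ (by simp)) (by decide) _)) (hout i 21 hi4 (hne _ (by simp)) (by decide) _))
      (mul_mem (hout i 23 hi4 (hne _ (by simp)) (by decide) _) (hout i 22 hi4 (hne _ (by simp)) (by decide) _))
  have decs : ∀ i < 4, ∃ a ∈ D4.ok.genR (F := K) (Ok.Out D4.pk (· = i)),
      ∀ w, Centr φ w → w * (x (D4.pk.sim i) 1 * a) * w⁻¹ = x (D4.pk.sim i) 1 * a := by
    intro i hi
    interval_cases i
    · refine ⟨x 13 1 * x 12 1 * a0, mul_mem (mul_mem (hout 0 13 hi (by rw [s0]; decide) (by decide) _)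
        (hout 0 12 hi (by rw [s0]; decide) (by decide) _)) (ha0out 0 (by simp)), fun w hw => ?_⟩
      have := comm_y w hw
      simpa [TwD4.dT, s0, mul_assoc] using this
    · refine ⟨1, one_mem _, fun w hw => ?_⟩
      have := hw 1 (one_mem _) 1 (map_one φ)
      simp only [inv_one, mul_one, one_mul] at this
      rw [s1, mul_one, mul_inv_eq_iff_eq_mul, this]
    · refine ⟨x 18 1 * x 12 1 * a0, mul_mem (mul_mem (hout 2 18 hi (by rw [s2]; decide) (by decide) _)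
        (hout 2 12 hi (by rw [s2]; decide) (by decide) _)) (ha0out 2 (by simp)), fun w hw => ?_⟩
      have := comm_y w hw
      have e : TwD4.dT φ (1 : K) * a0 = x 13 1 * (x 18 1 * x 12 1 * a0) := by
        simp only [TwD4.dT, map_one]
        rw [com (a := 18) (b := 13) (by decide +kernel)]; group
      rwa [e, ← s2] at this
    · refine ⟨x 18 1 * x 13 1 * a0, mul_mem (mul_mem (hout 3 18 hi (by rw [s3]; decide) (by decide) _)
        (hout 3 13 hi (by rw [s3]; decide) (by decide) _)) (ha0out 3 (by simp)), fun w hw => ?_⟩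
      have := comm_y w hw
      have e : TwD4.dT φ (1 : K) * a0 = x 12 1 * (x 18 1 * x 13 1 * a0) := by
        simp only [TwD4.dT, map_one]
        rw [mul_assoc (x 18 1), com (a := 13) (b := 12) (by decide +kernel), ← mul_assoc (x 18 1),
          com (a := 18) (b := 12) (by decide +kernel)]; group
      rwa [e, ← s3] at this
  have borel : ∀ w ∈ chevD4.group K, Centr φ w → w ∈ chevD4.borelSubgroup K := by
    intro w hw hcw
    refine FoldTwist.mem_borel_of_conj D4.ok ckComm_D4 hw fun i hi => ?_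
    obtain ⟨a, ha, h⟩ := decs i hi
    refine ⟨1, one_ne_zero, a, ha, ?_⟩
    rw [h w hcw]
    exact mul_mem (D4.ok.xG_mem_pos (D4.ok.sim_pos hi) _) (D4.ok.genR_le
      (fun r hr t => D4.ok.xG_mem_pos ((D4.ok.out_sim (i := i) hi).1 hr).1 t) ha)
  set n0 : GL chevD4.Idx K := D4.ok.nW w0 with hn0d
  have hw0 : WordOk D4.pk w0 := by
    intro i hi; simp [w0] at hi; show i < 4; omega
  have hn0 : n0 ∈ (TwD4.T φ).fixed ⊓ Fx φ := by
    rw [hn0d, show w0 = [1] ++ [0, 2, 3] ++ ([1] ++ [0, 2, 3]) ++ ([1] ++ [0, 2, 3]) from rfl]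
    simp only [D4.ok.nW_append]
    exact mul_mem (mul_mem (mul_mem hnb hna) (mul_mem hnb hna)) (mul_mem hnb hna)
  have hz0 : Centr φ (n0 * z * n0⁻¹) := by
    intro m hm s hs
    have := hcz (n0⁻¹ * m) (mul_mem (inv_mem hn0) hm) s hs
    rw [show n0 * z * n0⁻¹ * (m * x 14 s * m⁻¹) = n0 * (z * (n0⁻¹ * m * x 14 s * (n0⁻¹ * m)⁻¹)) * n0⁻¹ by group, this]
    group
  have hng : n0 ∈ chevD4.group K := ((TwD4.T φ).mem_fixed.1 hn0.1).1
  obtain ⟨v, hv, d, hd, rfl⟩ := D4.ok.mem_borel (borel z hz hcz)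
  have hb := borel _ (mul_mem (mul_mem hng hz) (inv_mem hng)) hz0
  have hneg : n0 * v * n0⁻¹ ∈ chevD4.negUnipotent K := by
    have hv' : v ∈ D4.ok.genR (F := K) (negS D4.pk w0) := by
      rw [D4.ok.posUnipotent_eq] at hv
      refine D4.ok.genR_mono (fun r hr => ?_) hv
      have h4 := List.all_eq_true.1 w0_tbl.2.2.2.1 r (D4.pk.mem_allRoots.2 (D4.pk.isPos_iff.1 hr).2)
      rw [hr] at h4
      exact ⟨hr, by simpa using h4⟩
    have := D4.ok.uminus_conj (F := K) hw0 (one_mem _) hv'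
    rwa [mul_one (D4.ok.nW w0)] at this
  have hdd : n0 * d * n0⁻¹ ∈ chevD4.borelSubgroup K :=
    Subgroup.mem_sup_right ((Subgroup.mem_normalizer_iff.1 (D4.ok.nW_normalizer (F := K) w0 hw0) _).1 hd)
  have h1 : n0 * v * n0⁻¹ ∈ chevD4.borelSubgroup K := by
    rw [show n0 * v * n0⁻¹ = (n0 * (v * d) * n0⁻¹) * (n0 * d * n0⁻¹)⁻¹ by group]
    exact mul_mem hb (inv_mem hdd)
  have h2 := Subgroup.mem_inf.2 ⟨h1, hneg⟩
  rw [D4.ok.borel_inf_neg, Subgroup.mem_bot, conj_eq_one_iff] at h2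
  subst h2
  rw [one_mul] at hcz ⊢
  obtain ⟨c, rfl⟩ := D4.ok.mem_diagonal_iff.1 hd
  refine D4.ok.hHom_eq_one_of fun k hk => ?_
  obtain ⟨a, ha, h⟩ := decs k hk
  have := diag_pos hk ha (h _ hcz)
  apply Units.ext
  rw [Units.coe_prod, Units.val_one]
  simpa [hchar, Units.val_zpow_eq_zpow_val] using this

include hO hp hHT hMH in
theorem rational_of_no_target (hno : ¬ Target φ H) : H ≤ Fx φ := by
  intro g hg
  have hgT := hHT hg
  have hgG := ((TwD4.T φ).mem_fixed.1 hgT).1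
  have hz : g⁻¹ * gmap chevD4 φ g ∈ chevD4.group K :=
    mul_mem (inv_mem hgG) (D4.ok.map_group_le φ ⟨g, hgG, rfl⟩)
  have h1 := cent_trivial φ G hO hp hz fun m hm s hs => by
    have hy := (long_fixed φ (β := 14) (by decide) hs)
    rcases rational_or_target φ G hO hp hHT hMH (mul_mem hg (hMH hm)) hs with h | h
    · have hy' : m * x 14 s * m⁻¹ ∈ Fx φ := mul_mem (mul_mem hm.2 hy.2) (inv_mem hm.2)
      rw [mem_Fx, show g * m * x 14 s * (g * m)⁻¹ = g * (m * x 14 s * m⁻¹) * g⁻¹ by group, map_mul, map_mul,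
        map_inv, (mem_Fx φ).1 hy', mul_inv_eq_iff_eq_mul] at h
      rw [mul_assoc, h]; group
    · exact absurd h hno
  exact (mem_Fx φ).2 (inv_mul_eq_one.1 h1).symm

theorem aT_add (a b : K) : aT φ a * aT φ b = aT φ (a + b) := by
  rw [← nb_dT φ a, ← nb_dT φ b, ← nb_dT φ (a + b), ← TwD4.dT_add]; group

theorem bT_add (a b : K) : bT φ a * bT φ b = bT φ (a + b) := by
  rw [← na_aT φ a, ← na_aT φ b, ← na_aT φ (a + b), ← aT_add]; group

include hO hMH in
theorem scale {l z : K} (hl : φ l = l) (hz : TwD4.dT φ z ∈ H) : TwD4.dT φ (l * z) ∈ H := by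
  by_cases h0 : l = 0
  · rw [h0, zero_mul, TwD4.dT_zero]; exact one_mem _
  set u : Kˣ := (Units.mk0 l h0)⁻¹
  set c : Fin 4 → Kˣ := Pi.mulSingle 1 u
  have hu : Units.map φ.toMonoidHom u = u := Units.ext (by simp [u, hl])
  have hd : D4.ok.hHom c ∈ (TwD4.T φ).fixed ⊓ Fx φ := by
    refine ⟨(TwD4.T φ).mem_fixed.2 ⟨D4.ok.diagonal_le_group (D4.ok.mem_diagonal_iff.2 ⟨c, rfl⟩), ?_⟩, ?_⟩
    · refine ((TwD4.T φ).σ_hHom c).trans ?_
      congr 1
      refine (TwD4.tau_apply φ c).trans ?_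
      funext j; fin_cases j <;> simp [c] <;> exact hu
    · refine (mem_Fx φ).2 ((D4.ok.gmap_hHom φ c).trans ?_)
      congr 1
      funext j
      show Units.map φ.toMonoidHom (c j) = c j
      rcases eq_or_ne j (1 : Fin 4) with rfl | hj
      · simp [c]; exact hu
      · rw [show c j = 1 from Pi.mulSingle_eq_of_ne (M := fun _ : Fin 4 => Kˣ) hj u, map_one]
  have hA := w0_tbl.2.2.2.2.2
  simp only [List.map_cons, List.map_nil, List.cons.injEq, and_true] at hA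
  obtain ⟨a1, a2, a3⟩ := hA
  have hch : ∀ r, D4.pk.A 1 r = -1 → hchar D4.pk c r = l := by
    intro r hr
    show ∏ i : Fin 4, _ = _
    rw [Fin.prod_univ_four]
    simp [c, u, hr]
  have e : D4.ok.hHom c * TwD4.dT φ z * (D4.ok.hHom c)⁻¹ = TwD4.dT φ (l * z) := by
    rw [TwD4.dT, conj3, D4.ok.hHom_xG c (by decide), D4.ok.hHom_xG c (by decide), D4.ok.hHom_xG c (by decide),
      hch 18 a1, hch 13 a2, hch 12 a3, TwD4.dT, map_mul, map_mul, hl, hl]
  exact e ▸ mul_mem (mul_mem (hMH hd) hz) (inv_mem (hMH hd))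

include hφ hK hO hp hMH in
theorem all_params (hT : Target φ H) : ∀ y, TwD4.dT φ y ∈ H := by
  obtain ⟨c, t, hc, ht, ht0, hk⟩ := hT
  have hnb := hMH (nb_fixed φ G hO)
  have hna := hMH (na_fixed φ G hO)
  have hM : ∀ β ∈ [0, 1, 9, 14, 22, 23], ∀ s : K, φ s = s → x β s ∈ H := fun β hβ s hs => hMH (long_fixed φ hβ hs)
  have hrat : ∀ s : K, φ s = s → TwD4.dT φ s ∈ H := fun s hs => hMH ⟨dT_T φ hp s, dT_Fx φ hs⟩
  have hb_a : ∀ y, bT φ y ∈ H → aT φ y ∈ H := fun y hy => unconj hna (by rw [na_aT]; exact hy)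
  have ha_d : ∀ y, aT φ y ∈ H → TwD4.dT φ y ∈ H := fun y hy => unconj hnb (by rw [nb_dT]; exact hy)
  have hadd : ∀ a b, TwD4.dT φ a ∈ H → TwD4.dT φ b ∈ H → TwD4.dT φ (a + b) ∈ H := fun a b ha hb =>
    TwD4.dT_add (φ := φ) a b ▸ mul_mem ha hb
  set z := -(t * c) with hzd
  set w := t * φ c * φ (φ c) with hwd
  have hab : aT φ z * bT φ w ∈ H := by
    have hl : x 22 (-(t * (c * φ c * φ (φ c)))) * x 23 (-(t * t * (c * φ c * φ (φ c)))) ∈ H :=
      mul_mem (hM 22 (by simp) _ (by simp only [map_neg, map_mul, hp, ht]; ring))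
        (hM 23 (by simp) _ (by simp only [map_neg, map_mul, hp, ht]; ring))
    rw [kT_eq φ hp c t ht] at hk
    have h1 := mul_mem (mul_mem (inv_mem (hM 14 (by simp) t ht)) hk) (inv_mem hl)
    simpa [mul_assoc, hzd, hwd] using h1
  have hz : TwD4.dT φ z ∈ H := by
    have h1 := mul_mem (mul_mem (hrat 1 (map_one φ)) hab) (inv_mem (hrat 1 (map_one φ)))
    rw [psi_eq φ hp] at h1
    have hl : x 22 (z + φ z + φ (φ z) - (w + φ w + φ (φ w))) * x 23 (-(z * φ z + φ z * φ (φ z) + φ (φ z) * z)) ∈ H :=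
      mul_mem (hM 22 (by simp) _ (by simp only [map_sub, map_add, hp]; ring))
        (hM 23 (by simp) _ (by simp only [map_neg, map_add, map_mul, hp]; ring))
    have h2 : aT φ z * bT φ (w + -(φ z + φ (φ z))) ∈ H := by
      have h2' := mul_mem h1 (inv_mem hl)
      rwa [mul_inv_cancel_right] at h2'
    have h3 : bT φ (-(φ z + φ (φ z))) ∈ H := by
      have h4 := mul_mem (inv_mem hab) h2
      rwa [← bT_add φ w, show (aT φ z * bT φ w)⁻¹ * (aT φ z * (bT φ w * bT φ (-(φ z + φ (φ z))))) =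
        bT φ (-(φ z + φ (φ z))) by group] at h4
    have h5 := hadd _ _ (ha_d _ (hb_a _ h3)) (hrat (z + φ z + φ (φ z)) (by simp only [map_add, hp]; ring))
    rwa [show -(φ z + φ (φ z)) + (z + φ z + φ (φ z)) = z by ring] at h5
  have hw : TwD4.dT φ w ∈ H := by
    have hA : aT φ z ∈ H := nb_dT φ z ▸ mul_mem (mul_mem hnb hz) (inv_mem hnb)
    have h6 : bT φ w ∈ H := by simpa using mul_mem (inv_mem hA) hab
    exact ha_d _ (hb_a _ h6)
  have hti : φ t⁻¹ = t⁻¹ := by rw [map_inv₀, ht]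
  have hc1 : TwD4.dT φ c ∈ H := by
    have := scale φ G hO hMH (l := -t⁻¹) (by rw [map_neg, hti]) hz
    rwa [hzd, show -t⁻¹ * -(t * c) = c by field_simp] at this
  have hc2 : TwD4.dT φ (c * c) ∈ H := by
    have h7 := scale φ G hO hMH (l := t⁻¹) hti hw
    rw [hwd, show t⁻¹ * (t * φ c * φ (φ c)) = φ c * φ (φ c) by field_simp] at h7
    have h8 := scale φ G hO hMH (l := c + φ c + φ (φ c)) (by simp only [map_add, hp]; ring) hc1
    have h9 := hrat (-(c * φ c + φ c * φ (φ c) + φ (φ c) * c)) (by simp only [map_neg, map_add, map_mul, hp]; ring)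
    have h10 := hadd _ _ (hadd _ _ h7 h8) h9
    rwa [show φ c * φ (φ c) + (c + φ c + φ (φ c)) * c + -(c * φ c + φ c * φ (φ c) + φ (φ c) * c) = c * c by ring] at h10
  have hq2 : 2 ≤ q := by
    by_contra h
    have := Fintype.one_lt_card (α := K)
    interval_cases q <;> simp_all
  obtain ⟨hcard, -⟩ := Std.fixed_field_card (F := K) hq2 (by omega : 1 ≤ 3) hK
  let f : {s : K // s ^ q = s} × {s : K // s ^ q = s} × {s : K // s ^ q = s} → K :=
    fun p => p.1.1 + p.2.1.1 * c + p.2.2.1 * (c * c)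
  have hinj : Function.Injective f := by
    rintro ⟨⟨a, ha⟩, ⟨b, hb⟩, ⟨d, hd⟩⟩ ⟨⟨a', ha'⟩, ⟨b', hb'⟩, ⟨d', hd'⟩⟩ e
    have fa : ∀ s : K, s ^ q = s → φ s = s := fun s hs => (hφ s).trans hs
    simp only [f] at e
    set A := a - a'
    set B := b - b'
    set E := d - d'
    have e0 : A + B * c + E * (c * c) = 0 := by simp only [A, B, E]; linear_combination e
    have fA : φ A = A := by simp [A, fa _ ha, fa _ ha']
    have fB : φ B = B := by simp [B, fa _ hb, fa _ hb']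
    have fE : φ E = E := by simp [E, fa _ hd, fa _ hd']
    have e1 : A + B * φ c + E * (φ c * φ c) = 0 := by
      have := congrArg φ e0
      simpa [fA, fB, fE] using this
    have e2 : A + B * φ (φ c) + E * (φ (φ c) * φ (φ c)) = 0 := by
      have := congrArg φ e1
      simpa [fA, fB, fE] using this
    have n1 : c - φ c ≠ 0 := sub_ne_zero.2 (Ne.symm hc)
    have n2 : c - φ (φ c) ≠ 0 := by
      refine sub_ne_zero.2 fun e => hc ?_
      have h1 := congrArg φ e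
      rwa [hp] at h1
    have n3 : φ c - φ (φ c) ≠ 0 := sub_ne_zero.2 fun e => hc (φ.injective e).symm
    have q1 : B + E * (c + φ c) = 0 := mul_left_cancel₀ n1 (by rw [mul_zero]; linear_combination e0 - e1)
    have q2 : B + E * (c + φ (φ c)) = 0 := mul_left_cancel₀ n2 (by rw [mul_zero]; linear_combination e0 - e2)
    have hE : E = 0 := mul_left_cancel₀ n3 (by rw [mul_zero]; linear_combination q1 - q2)
    have hB : B = 0 := by linear_combination q1 - (c + φ c) * hE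
    have hA : A = 0 := by linear_combination e0 - c * hB - (c * c) * hE
    simp only [A, B, E, sub_eq_zero] at hA hB hE
    subst hA hB hE
    rfl
  have hsurj : Function.Surjective f := by
    refine (hinj.bijective_of_nat_card_le ?_).2
    rw [Nat.card_eq_fintype_card (α := K), hK, Nat.card_prod, Nat.card_prod, hcard]
    ring_nf
    exact le_rfl
  intro y
  obtain ⟨⟨⟨a, ha⟩, ⟨b, hb⟩, ⟨d, hd⟩⟩, rfl⟩ := hsurj y
  exact hadd _ _ (hadd _ _ (hrat a ((hφ a).trans ha)) (scale φ G hO hMH ((hφ b).trans hb) hc1))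
    (scale φ G hO hMH ((hφ d).trans hd) hc2)

include hφ hK hO hp hMH in
theorem twisted_le_of_target (hT : Target φ H) : twistedD4 K q ≤ H := by
  have hall := all_params φ hφ hK G hO hp hMH hT
  have hnb := nb_fixed φ G hO
  have hna := na_fixed φ G hO
  refine (Subgroup.closure_le _).2 fun g hg => TwD4.gens (P' := fun g => g ∈ H) (fun r hr t ht => ?_)
    (fun rs hrs t => ?_) hg
  · exact hMH (long_fixed φ (by simp at hr ⊢; omega) ((hφ t).trans ht))
  · have e2 : t ^ q ^ 2 = φ (φ t) := by rw [hφ, hφ, ← pow_mul, sq]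
    rw [e2, ← hφ]
    simp only [List.mem_cons, List.not_mem_nil, or_false] at hrs
    rcases hrs with rfl | rfl
    · exact hall t
    · have hw0 : WordOk D4.pk w0 := by intro i hi; simp [w0] at hi; show i < 4; omega
      have hn0 : (D4.ok.nW w0 : GL chevD4.Idx K) ∈ (TwD4.T φ).fixed ⊓ Fx φ := by
        rw [show w0 = [1] ++ [0, 2, 3] ++ ([1] ++ [0, 2, 3]) ++ ([1] ++ [0, 2, 3]) from rfl]
        simp only [D4.ok.nW_append]
        exact mul_mem (mul_mem (mul_mem hnb hna) (mul_mem hnb hna)) (mul_mem hnb hna)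
      obtain ⟨w5, w10, w11, -⟩ := w0_tbl
      refine unconj (hMH hn0) ?_
      rw [conj3, (D4.ok.nW_xG_sign (F := K) w0 hw0 5 (by decide) t).2,
        (D4.ok.nW_xG_sign (F := K) w0 hw0 10 (by decide) _).2, (D4.ok.nW_xG_sign (F := K) w0 hw0 11 (by decide) _).2,
        w5, w10, w11]
      have := hall (-t)
      simpa [TwD4.dT] using this

end Cfsg.Agent.Chev.TwSubD4
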